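import Groth.Prelude.Def_GLinSh
import Groth.Agent.AlgGrp2.Basic
import Mathlib.AlgebraicGeometry.AlgClosed.Basic

/-!
# Fibre coordinates at points, and bundle actions
-/

set_option autoImplicit false

universe u

open CategoryTheory CategoryTheory.Limits MonoidalCategory CartesianMonoidalCategory MonObj AlgebraicGeometry
  Opposite TopologicalSpace

noncomputable section

namespace Groth.LinUnique

variable {k : Type u} [Field k] {G X V : Over (Spec (CommRingCat.of k))} (π : V ⟶ X)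

/-- The value of a fibre coordinate at a point of the total space lying over its open. -/
def coordVal {T : Over (Spec (CommRingCat.of k))} (t : T ⟶ V) {U : X.left.Opens}
    (h : ⊤ ≤ (t).left ⁻¹ᵁ (π.left ⁻¹ᵁ U)) (y : Γ(V.left, π.left ⁻¹ᵁ U)) : Γ(T.left, ⊤) :=
  t.left.appLE (π.left ⁻¹ᵁ U) ⊤ h y

theorem coordVal_congr {T : Over (Spec (CommRingCat.of k))} {t t' : T ⟶ V} (e : t = t') {U : X.left.Opens}
    (h : ⊤ ≤ (t).left ⁻¹ᵁ (π.left ⁻¹ᵁ U)) (h' : ⊤ ≤ (t').left ⁻¹ᵁ (π.left ⁻¹ᵁ U)) (y : Γ(V.left, π.left ⁻¹ᵁ U)) :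
    coordVal π t h y = coordVal π t' h' y := by
  subst e; rfl

theorem coordVal_comp {T T' : Over (Spec (CommRingCat.of k))} (s : T' ⟶ T) (t : T ⟶ V)
    {U : X.left.Opens} (h : ⊤ ≤ (t).left ⁻¹ᵁ (π.left ⁻¹ᵁ U)) (h' : ⊤ ≤ ((s ≫ t)).left ⁻¹ᵁ (π.left ⁻¹ᵁ U))
    (y : Γ(V.left, π.left ⁻¹ᵁ U)) :
    coordVal π (s ≫ t) h' y = s.left.appTop (coordVal π t h y) := by
  refine Eq.trans ?_ (congrArg (fun f => (ConcreteCategory.hom f) (coordVal π t h y))
    (Scheme.Hom.app_eq_appLE s.left (U := (⊤ : T.left.Opens))).symm)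
  exact (ConcreteCategory.congr_hom (Scheme.Hom.appLE_comp_appLE s.left t.left
    (π.left ⁻¹ᵁ U) ⊤ ⊤ h le_rfl) y).symm

variable {π}

/-- A bundle action multiplies fibre coordinates by a function of the base point. -/
theorem coordVal_act [GrpObj G] {a : AlgGrp.Action G X} {Φ : AlgGrp.Action G V}
    {chart : ∀ U : X.left.Opens, Set (Γ(V.left, π.left ⁻¹ᵁ U))}
    {hπ : Φ.act ≫ π = (G ◁ π) ≫ a.act} (hl : GLinSh.IsLinearLift a π Φ chart hπ)
    {T : Over (Spec (CommRingCat.of k))} (g : T ⟶ G) (v : T ⟶ V)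
    {U U' : X.left.Opens} {y : Γ(V.left, π.left ⁻¹ᵁ U)} {y' : Γ(V.left, π.left ⁻¹ᵁ U')}
    (hy : y ∈ chart U) (hy' : y' ∈ chart U')
    (h : ⊤ ≤ (v).left ⁻¹ᵁ (π.left ⁻¹ᵁ U)) (h' : ⊤ ≤ ((lift g v ≫ Φ.act)).left ⁻¹ᵁ (π.left ⁻¹ᵁ U')) :
    ∃ r : Γ(T.left, ⊤), coordVal π (lift g v ≫ Φ.act) h' y' = r * coordVal π v h y := by
  obtain ⟨c, hc⟩ := hl U U' y y' hy hy'
  have hL : ⊤ ≤ (lift g v).left ⁻¹ᵁ GLinSh.liftOpen a π U U' := by
    intro z _
    refine ⟨?_, ?_⟩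
    · change z ∈ (lift g v ≫ (G ◁ π) ≫ a.act).left ⁻¹ᵁ U'
      rw [← hπ, ← Category.assoc]
      exact h' (Set.mem_univ z)
    · change z ∈ (lift g v ≫ (G ◁ π) ≫ snd G X).left ⁻¹ᵁ U
      rw [whiskerLeft_snd, lift_snd_assoc]
      exact h (Set.mem_univ z)
  refine ⟨(lift g v).left.appLE _ ⊤ hL ((G ◁ π).left.appLE _ _ (GLinSh.liftOpen_le_base a π) c), ?_⟩
  have := congrArg ((lift g v).left.appLE _ ⊤ hL).hom hc
  rw [map_mul] at this
  refine Eq.trans ?_ (this.trans (congrArg₂ (· * ·) rfl ?_))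
  · change ((lift g v).left ≫ Φ.act.left).appLE _ _ _ y' =
      (Φ.act.left.appLE _ _ _ ≫ (lift g v).left.appLE _ _ _) y'
    rw [Scheme.Hom.appLE_comp_appLE]
  · change ((snd G V).left.appLE _ _ _ ≫ (lift g v).left.appLE _ _ hL) y = _
    rw [Scheme.Hom.appLE_comp_appLE]
    exact coordVal_congr π (lift_snd g v)
      (by rw [lift_snd]; exact h) h y

theorem res_coordVal {T : Over (Spec (CommRingCat.of k))} (t : T ⟶ V) {U W : X.left.Opens} (hWU : W ≤ U)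
    (h : ⊤ ≤ (t).left ⁻¹ᵁ (π.left ⁻¹ᵁ W)) (y : Γ(V.left, π.left ⁻¹ᵁ U)) :
    coordVal π t h (GLinSh.res π hWU y) =
      coordVal π t (h.trans (t.left.preimage_mono (π.left.preimage_mono hWU))) y := by
  exact ConcreteCategory.congr_hom
    (Scheme.Hom.map_appLE t.left h (homOfLE (π.left.preimage_mono hWU)).op) y

/-- Two rational points over one point with equal coordinate agree. -/
theorem eq_of_coordVal_eq (A : GLinSh.LinAtlas π) {t t' : 𝟙_ (Over (Spec (CommRingCat.of k))) ⟶ V}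
    (e : t ≫ π = t' ≫ π) {U : X.left.Opens} {y : Γ(V.left, π.left ⁻¹ᵁ U)} (hy : y ∈ A.chart U)
    (h : ⊤ ≤ (t).left ⁻¹ᵁ (π.left ⁻¹ᵁ U)) (h' : ⊤ ≤ (t').left ⁻¹ᵁ (π.left ⁻¹ᵁ U))
    (hv : coordVal π t h y = coordVal π t' h' y) : t = t' := by
  have : IsAffineHom π.left := A.affine
  let p : (𝟙_ (Over (Spec (CommRingCat.of k)))).left := IsLocalRing.closedPoint k
  obtain ⟨_, ⟨W, hW, rfl⟩, hpW, hWU⟩ := X.left.isBasis_affineOpens.exists_subset_of_mem_open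
    (show (t ≫ π).left.base p ∈ (U : Set X.left) from h (Set.mem_univ p)) U.isOpen
  have : Subsingleton ↥(𝟙_ (Over (Spec (CommRingCat.of k)))).left :=
    inferInstanceAs (Subsingleton (PrimeSpectrum k))
  have hW' : ⊤ ≤ (t).left ⁻¹ᵁ (π.left ⁻¹ᵁ W) := fun z _ => by rwa [Subsingleton.elim z p]
  have hW'' : ⊤ ≤ (t').left ⁻¹ᵁ (π.left ⁻¹ᵁ W) := fun z hz => by
    change z ∈ (t' ≫ π).left ⁻¹ᵁ W
    rw [← e]; exact hW' hz
  have hring : t.left.appLE (π.left ⁻¹ᵁ W) ⊤ hW' = t'.left.appLE (π.left ⁻¹ᵁ W) ⊤ hW'' := by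
    ext s
    obtain ⟨P, rfl⟩ := (A.coord U y hy W hW hWU).2 s
    induction P using Polynomial.induction_on' with
    | add P Q hP hQ => simp only [map_add, hP, hQ]
    | monomial m c =>
      simp only [Polynomial.coe_eval₂RingHom, Polynomial.eval₂_monomial, map_mul, map_pow]
      congr 1
      · change (π.left.app W ≫ t.left.appLE _ ⊤ hW') c = (π.left.app W ≫ t'.left.appLE _ ⊤ hW'') c
        simp only [Scheme.Hom.app_eq_appLE, Scheme.Hom.appLE_comp_appLE]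
        simp only [← Over.comp_left, e]
      · congr 1
        change coordVal π t hW' (GLinSh.res π hWU y) = coordVal π t' hW'' (GLinSh.res π hWU y)
        rw [res_coordVal (hWU := hWU), res_coordVal (hWU := hWU)]
        exact hv
  have hT : IsAffineOpen (⊤ : (𝟙_ (Over (Spec (CommRingCat.of k)))).left.Opens) :=
    isAffineOpen_top (Spec (CommRingCat.of k))
  have hTiso : IsIso hT.fromSpec := by
    have : IsAffine (𝟙_ (Over (Spec (CommRingCat.of k)))).left :=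
      inferInstanceAs (IsAffine (Spec (CommRingCat.of k)))
    rw [IsAffineOpen.fromSpec_top]
    infer_instance
  refine Over.OverMorphism.ext ((cancel_epi hT.fromSpec).1 ?_)
  rw [← IsAffineOpen.SpecMap_appLE_fromSpec t.left (hW.preimage π.left) hT hW',
    ← IsAffineOpen.SpecMap_appLE_fromSpec t'.left (hW.preimage π.left) hT hW'', hring]

/-- Functions on the ground field are zero or units. -/
theorem eq_zero_or_isUnit (z : Γ((𝟙_ (Over (Spec (CommRingCat.of k)))).left, ⊤)) : z = 0 ∨ IsUnit z := by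
  let e : Γ((𝟙_ (Over (Spec (CommRingCat.of k)))).left, ⊤) ≃+* k :=
    (Scheme.ΓSpecIso (CommRingCat.of k)).commRingCatIsoToRingEquiv
  rcases eq_or_ne (e z) 0 with h | h
  · exact Or.inl (e.injective (by rw [h, map_zero]))
  · exact Or.inr (by simpa using (isUnit_iff_ne_zero.2 h).map e.symm)

/-- Bundle actions preserve non-vanishing of coordinates. -/
theorem coordVal_act_ne_zero [GrpObj G] {a : AlgGrp.Action G X} {Φ : AlgGrp.Action G V}
    {chart : ∀ U : X.left.Opens, Set (Γ(V.left, π.left ⁻¹ᵁ U))}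
    {hπ : Φ.act ≫ π = (G ◁ π) ≫ a.act} (hl : GLinSh.IsLinearLift a π Φ chart hπ)
    {T : Over (Spec (CommRingCat.of k))} (g : T ⟶ G) (v : T ⟶ V)
    {U U' : X.left.Opens} {y : Γ(V.left, π.left ⁻¹ᵁ U)} {y' : Γ(V.left, π.left ⁻¹ᵁ U')}
    (hy : y ∈ chart U) (hy' : y' ∈ chart U')
    (h : ⊤ ≤ (v).left ⁻¹ᵁ (π.left ⁻¹ᵁ U)) (h' : ⊤ ≤ ((lift g v ≫ Φ.act)).left ⁻¹ᵁ (π.left ⁻¹ᵁ U'))
    (hne : coordVal π v h y ≠ 0) : coordVal π (lift g v ≫ Φ.act) h' y' ≠ 0 := by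
  intro h0
  have e : lift g⁻¹ (lift g v ≫ Φ.act) ≫ Φ.act = v := Groth.AlgGrp2.lift_inv_act Φ g v
  obtain ⟨r, hr⟩ := coordVal_act hl g⁻¹ (lift g v ≫ Φ.act) hy' hy h' (by rw [e]; exact h)
  rw [h0, mul_zero] at hr
  exact hne ((coordVal_congr π e.symm h _ y).trans hr)

end Groth.LinUnique
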