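import Groth.Prelude.Def_Red
import Groth.Agent.LinUnique.Fibre
import Groth.Agent.AlgGrp2.UnitsGroup
import Groth.Agent.AlgGrp1.Points
import Groth.Agent.Reductive.Points

/-!
# Uniqueness of linearisations
-/

set_option autoImplicit false

universe u

open CategoryTheory CategoryTheory.Limits MonoidalCategory CartesianMonoidalCategory MonObj AlgebraicGeometry
  Opposite TopologicalSpace

noncomputable section

namespace Groth.LinUnique

variable {k : Type u} [Field k]

/-- The total space of a line bundle over a reduced base is reduced. -/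
theorem isReduced_total {X V : Over (Spec (CommRingCat.of k))} {π : V ⟶ X} (A : GLinSh.LinAtlas π)
    [IsReduced X.left] : IsReduced V.left := by
  have : IsAffineHom π.left := A.affine
  have h : ∀ v : V.left, ∃ (W : V.left.Opens) (_ : IsAffineOpen W),
      v ∈ W ∧ _root_.IsReduced Γ(V.left, W) := by
    intro v
    obtain ⟨U, hxU, y, hy⟩ := A.cover (π.left.base v)
    obtain ⟨_, ⟨W, hW, rfl⟩, hxW, hWU⟩ := X.left.isBasis_affineOpens.exists_subset_of_mem_open hxU U.isOpen
    refine ⟨π.left ⁻¹ᵁ W, hW.preimage π.left, hxW, ?_⟩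
    have : _root_.IsReduced (Polynomial Γ(X.left, W)) := ⟨fun P hP =>
      Polynomial.ext fun i => (Polynomial.isNilpotent_iff.1 hP i).eq_zero⟩
    exact isReduced_of_injective (RingEquiv.ofBijective _ (A.coord U y hy W hW hWU)).symm
      (RingEquiv.injective _)
  choose W hW hv hred using h
  let 𝒰 := V.left.openCoverOfIsOpenCover W (IsOpenCover.mk (by
    ext x; simpa using ⟨x, hv x⟩))
  have : ∀ i, IsReduced (𝒰.X i) := fun i => by
    have : IsAffine (W i).toScheme := hW i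
    have : _root_.IsReduced Γ((W i).toScheme, ⊤) := by
      have := hred i
      exact isReduced_of_injective (W i).topIso.hom.hom
        (ConcreteCategory.bijective_of_isIso (W i).topIso.hom).1
    exact @isReduced_of_isAffine_isReduced (W i).toScheme ‹_› ‹_›
  exact IsReduced.of_openCover (X := V.left) 𝒰

/-- The total space of a line bundle is locally of finite type over the base. -/
theorem locallyOfFiniteType_total {X V : Over (Spec (CommRingCat.of k))} {π : V ⟶ X}
    (A : GLinSh.LinAtlas π) [LocallyOfFiniteType X.hom] : LocallyOfFiniteType V.hom := by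
  have : IsAffineHom π.left := A.affine
  have : LocallyOfFiniteType π.left := by
    refine (HasRingHomProperty.iff_exists_appLE (P := @LocallyOfFiniteType)
      (RingHom.finiteType_stableUnderComposition.stableUnderCompositionWithLocalizationAway
        RingHom.finiteType_holdsForLocalizationAway).left).2 ?_
    intro v
    obtain ⟨U, hxU, y, hy⟩ := A.cover (π.left.base v)
    obtain ⟨_, ⟨W, hW, rfl⟩, hxW, hWU⟩ := X.left.isBasis_affineOpens.exists_subset_of_mem_open hxU U.isOpen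
    refine ⟨⟨W, hW⟩, ⟨π.left ⁻¹ᵁ W, hW.preimage π.left⟩, hxW, le_rfl, ?_⟩
    rw [← Scheme.Hom.app_eq_appLE]
    have h := (RingHom.FiniteType.of_surjective _ (A.coord U y hy W hW hWU).2).comp
      (show (Polynomial.C : Γ(X.left, W) →+* Polynomial Γ(X.left, W)).FiniteType from
        RingHom.finiteType_algebraMap.2 (inferInstance : Algebra.FiniteType Γ(X.left, W) (Polynomial Γ(X.left, W))))
    convert h using 1
    ext c
    simp
  rw [← Over.w π]
  infer_instance

variable [IsAlgClosed k]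

/-- A unit at all rational points is a unit. -/
theorem isUnit_of_forall_point {T : Over (Spec (CommRingCat.of k))} [LocallyOfFiniteType T.hom]
    (f : Γ(T.left, ⊤)) (h : ∀ g : 𝟙_ (Over (Spec (CommRingCat.of k))) ⟶ T, g.left.appTop f ≠ 0) :
    IsUnit f := by
  have : JacobsonSpace ↥T.left := LocallyOfFiniteType.jacobsonSpace T.hom
  have htop : T.left.basicOpen f = ⊤ := by
    by_contra hne
    have hc : IsClosed ((T.left.basicOpen f : Set T.left)ᶜ) := (T.left.basicOpen f).isOpen.isClosed_compl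
    have hn : ((T.left.basicOpen f : Set T.left)ᶜ).Nonempty := by
      rw [Set.nonempty_compl]
      exact fun e => hne (Opens.ext e)
    obtain ⟨x, hx, hxc⟩ := nonempty_inter_closedPoints hn hc.isLocallyClosed
    let g : 𝟙_ (Over (Spec (CommRingCat.of k))) ⟶ T :=
      Over.homMk (pointOfClosedPoint T.hom x hxc) (pointOfClosedPoint_comp T.hom x hxc)
    apply hx
    have hu := (eq_zero_or_isUnit (g.left.appTop f)).resolve_left (h g)
    have : g.left.base (IsLocalRing.closedPoint k) ∈ T.left.basicOpen f := by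
      change IsLocalRing.closedPoint k ∈ g.left ⁻¹ᵁ T.left.basicOpen f
      rw [Scheme.preimage_basicOpen_top, Scheme.basicOpen_of_isUnit _ hu]
      exact Set.mem_univ _
    rwa [show g.left.base (IsLocalRing.closedPoint k) = x from pointOfClosedPoint_apply T.hom x hxc _] at this
  exact T.left.toLocallyRingedSpace.toRingedSpace.isUnit_of_isUnit_germ ⊤ f fun x hx =>
    (T.left.toLocallyRingedSpace.toRingedSpace.mem_basicOpen f x hx).1 (by
      have : x ∈ T.left.basicOpen f := by rw [htop]; exact hx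
      exact this)

variable {G X V : Over (Spec (CommRingCat.of k))} [GrpObj G] [Smooth G.hom] [QuasiCompact G.hom]
  [ConnectedSpace G.left]

/-- A unit which is one at the origin is one, without characters. -/
theorem eq_one_of_unit (hχ : ∀ (χ : G ⟶ Red.Gm (Spec (CommRingCat.of k))) [IsMonHom χ], χ = 1)
    (f : Γ(G.left, ⊤)) (hf : IsUnit f) (he : η[G].left.appTop f = 1) : f = 1 := by
  have hm := Groth.AlgGrp2.UnitsVar.character_of_unit G f hf he
  let χ : G ⟶ Red.Gm (Spec (CommRingCat.of k)) := Groth.Reductive.gmMk G hf.unit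
  have hv : Red.gmFn χ = f := by simp [χ]
  have : IsMonHom χ := by
    refine ⟨?_, ?_⟩
    · rw [MonObj.one_eq_one (M := Red.Gm (Spec (CommRingCat.of k)))]
      apply Groth.Reductive.gmPt_ext
      rw [Groth.Reductive.gmFn_comp, Groth.Reductive.gmFn_one, hv, he]
    · rw [show (χ ⊗ₘ χ) ≫ μ = (fst G G ≫ χ) * (snd G G ≫ χ) by
        rw [Hom.mul_def, ← lift_map_assoc, lift_fst_snd, Category.id_comp]]
      apply Groth.Reductive.gmPt_ext
      rw [Groth.Reductive.gmFn_comp, Groth.Reductive.gmFn_mul, Groth.Reductive.gmFn_comp,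
        Groth.Reductive.gmFn_comp, hv]
      exact hm
  rw [← hv, hχ χ, Groth.Reductive.gmFn_one]

variable (a : AlgGrp.Action G X) (π : V ⟶ X) (A : GLinSh.LinAtlas π) (Φ₁ Φ₂ : AlgGrp.Action G V)

/-- Two lifts agree on rational points. -/
theorem lifts_agree_on_points [LocallyOfFiniteType G.hom]
    (hχ : ∀ (χ : G ⟶ Red.Gm (Spec (CommRingCat.of k))) [IsMonHom χ], χ = 1)
    (h₁ : Φ₁.act ≫ π = (G ◁ π) ≫ a.act) (h₂ : Φ₂.act ≫ π = (G ◁ π) ≫ a.act)
    (hl₁ : GLinSh.IsLinearLift a π Φ₁ A.chart h₁) (hl₂ : GLinSh.IsLinearLift a π Φ₂ A.chart h₂)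
    (g : 𝟙_ (Over (Spec (CommRingCat.of k))) ⟶ G) (v : 𝟙_ (Over (Spec (CommRingCat.of k))) ⟶ V) :
    lift g v ≫ Φ₁.act = lift g v ≫ Φ₂.act := by
  have : Subsingleton ↥(𝟙_ (Over (Spec (CommRingCat.of k)))).left :=
    inferInstanceAs (Subsingleton (PrimeSpectrum k))
  let p : (𝟙_ (Over (Spec (CommRingCat.of k)))).left := IsLocalRing.closedPoint k
  have chartAt : ∀ t : 𝟙_ (Over (Spec (CommRingCat.of k))) ⟶ V, ∃ (U : X.left.Opens)
      (y : Γ(V.left, π.left ⁻¹ᵁ U)), y ∈ A.chart U ∧ ⊤ ≤ t.left ⁻¹ᵁ (π.left ⁻¹ᵁ U) := fun t => by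
    obtain ⟨U, hxU, y, hy⟩ := A.cover (π.left.base (t.left.base p))
    exact ⟨U, y, hy, fun z _ => by rw [Subsingleton.elim z p]; exact hxU⟩
  have over_x : ∀ {T : Over (Spec (CommRingCat.of k))} (Φ : AlgGrp.Action G V),
      Φ.act ≫ π = (G ◁ π) ≫ a.act → ∀ (g : T ⟶ G) (v : T ⟶ V),
        (lift g v ≫ Φ.act) ≫ π = lift g (v ≫ π) ≫ a.act := fun Φ h g v => by
    rw [Category.assoc, h, lift_whiskerLeft_assoc]
  obtain ⟨U, y, hy, hU⟩ := chartAt v
  obtain ⟨U', y', hy', hU'⟩ := chartAt (lift g v ≫ Φ₁.act)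
  have e12 : (lift g v ≫ Φ₁.act) ≫ π = (lift g v ≫ Φ₂.act) ≫ π := by
    rw [over_x Φ₁ h₁, over_x Φ₂ h₂]
  have hU'' : ⊤ ≤ (lift g v ≫ Φ₂.act).left ⁻¹ᵁ (π.left ⁻¹ᵁ U') := fun z hz => by
    change z ∈ ((lift g v ≫ Φ₂.act) ≫ π).left ⁻¹ᵁ U'
    rw [← e12]; exact hU' hz
  rcases eq_or_ne (coordVal π v hU y) 0 with h0 | hne
  · refine eq_of_coordVal_eq A e12 hy' hU' hU'' ?_
    obtain ⟨r₁, hr₁⟩ := coordVal_act hl₁ g v hy hy' hU hU'
    obtain ⟨r₂, hr₂⟩ := coordVal_act hl₂ g v hy hy' hU hU''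
    rw [hr₁, hr₂, h0, mul_zero, mul_zero]
  -- the comparison curve in the fibre
  let vG : G ⟶ V := toUnit G ≫ v
  let ψ : G ⟶ V := lift (𝟙 G)⁻¹ (lift (𝟙 G) vG ≫ Φ₂.act) ≫ Φ₁.act
  have hψπ : ψ ≫ π = toUnit G ≫ v ≫ π := by
    simp only [ψ, vG, over_x Φ₁ h₁, over_x Φ₂ h₂]
    rw [Groth.AlgGrp2.lift_inv_act, Category.assoc]
  have hψU : ⊤ ≤ ψ.left ⁻¹ᵁ (π.left ⁻¹ᵁ U) := fun z _ => by
    change z ∈ (ψ ≫ π).left ⁻¹ᵁ U
    rw [hψπ]
    exact hU (Set.mem_univ ((toUnit G).left.base z))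
  have hpt : ∀ h : 𝟙_ (Over (Spec (CommRingCat.of k))) ⟶ G,
      h ≫ ψ = lift h⁻¹ (lift h v ≫ Φ₂.act) ≫ Φ₁.act := fun h => by
    simp only [ψ, vG, comp_lift_assoc, GrpObj.comp_inv, Category.comp_id]
    rw [← Category.assoc h (toUnit G) v, comp_toUnit, toUnit_unique (toUnit _) (𝟙 _), Category.id_comp]
  set f := coordVal π ψ hψU y with hf
  have hfval : ∀ h : 𝟙_ (Over (Spec (CommRingCat.of k))) ⟶ G, ∀ hh,
      h.left.appTop f = coordVal π (h ≫ ψ) hh y := fun h hh => (coordVal_comp π h ψ hψU hh y).symm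
  have hhU : ∀ h : 𝟙_ (Over (Spec (CommRingCat.of k))) ⟶ G,
      ⊤ ≤ (h ≫ ψ).left ⁻¹ᵁ (π.left ⁻¹ᵁ U) := fun h z _ => hψU (Set.mem_univ (h.left.base z))
  have hfne : ∀ h : 𝟙_ (Over (Spec (CommRingCat.of k))) ⟶ G, h.left.appTop f ≠ 0 := by
    intro h
    obtain ⟨U₂, y₂, hy₂, hU₂⟩ := chartAt (lift h v ≫ Φ₂.act)
    have h2 := coordVal_act_ne_zero hl₂ h v hy hy₂ hU hU₂ hne
    have h3 := coordVal_act_ne_zero hl₁ h⁻¹ (lift h v ≫ Φ₂.act) hy₂ hy hU₂
      (by rw [← hpt h]; exact hhU h) h2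
    rw [hfval h (hhU h), coordVal_congr π (hpt h) (hhU h) (by rw [← hpt h]; exact hhU h) y]
    exact h3
  have hfu := isUnit_of_forall_point f hfne
  have hη : η[G] ≫ ψ = v := by
    rw [hpt, MonObj.one_eq_one, inv_one, Groth.AlgGrp2.lift_one_act, Groth.AlgGrp2.lift_one_act]
  have hfe : η[G].left.appTop f = coordVal π v hU y := by
    rw [hfval η[G] (hhU _), coordVal_congr π hη (hhU _) hU y]
  have hce : IsUnit (coordVal π v hU y) := (eq_zero_or_isUnit _).resolve_left hne
  have hcancel : ∀ {T : Over (Spec (CommRingCat.of k))} (t : T ⟶ G),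
      t.left.appTop ((toUnit G).left.appTop (coordVal π v hU y)) = (toUnit T).left.appTop (coordVal π v hU y) :=
    fun t => by
      rw [← ConcreteCategory.comp_apply, ← Scheme.Hom.comp_appTop, ← Over.comp_left, comp_toUnit]
  obtain ⟨c, hc⟩ := hce
  have hconst : f = (toUnit G).left.appTop (coordVal π v hU y) := by
    have h1 := eq_one_of_unit hχ (f * (toUnit G).left.appTop (c⁻¹ : _ˣ))
      (hfu.mul ((c⁻¹).isUnit.map _)) (by
        rw [map_mul, hfe, ← ConcreteCategory.comp_apply, ← Scheme.Hom.comp_appTop, ← Over.comp_left,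
          comp_toUnit, toUnit_unique (toUnit _) (𝟙 _)]
        change _ * ((c⁻¹ : _ˣ) : Γ((𝟙_ (Over (Spec (CommRingCat.of k)))).left, ⊤)) = 1
        rw [← hc, Units.mul_inv])
    calc f = f * ((toUnit G).left.appTop (c⁻¹ : _ˣ) * (toUnit G).left.appTop c) := by
            rw [← map_mul, Units.inv_mul, map_one, _root_.mul_one]
      _ = _ := by rw [← _root_.mul_assoc, h1, _root_.one_mul, hc]
  have hgψ : g ≫ ψ = v := by
    refine eq_of_coordVal_eq A ?_ hy (hhU g) hU ?_
    · rw [Category.assoc, hψπ, ← Category.assoc g, comp_toUnit, toUnit_unique (toUnit _) (𝟙 _),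
        Category.id_comp]
    · rw [← hfval g, hconst, hcancel g, toUnit_unique (toUnit _) (𝟙 _)]
      rfl
  rw [hpt] at hgψ
  conv_lhs => rw [← hgψ]
  exact Groth.AlgGrp2.lift_act_inv Φ₁ g _

/-- Uniqueness of a linear lift. -/
theorem lift_unique [LocallyOfFiniteType G.hom] [LocallyOfFiniteType X.hom] [IsReduced X.left]
    (hχ : ∀ (χ : G ⟶ Red.Gm (Spec (CommRingCat.of k))) [IsMonHom χ], χ = 1)
    (h₁ : Φ₁.act ≫ π = (G ◁ π) ≫ a.act) (h₂ : Φ₂.act ≫ π = (G ◁ π) ≫ a.act)
    (hl₁ : GLinSh.IsLinearLift a π Φ₁ A.chart h₁) (hl₂ : GLinSh.IsLinearLift a π Φ₂ A.chart h₂) :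
    Φ₁.act = Φ₂.act := by
  have : IsAffineHom π.left := A.affine
  have : IsReduced V.left := isReduced_total A
  have : LocallyOfFiniteType V.hom := locallyOfFiniteType_total A
  have : GeometricallyReduced G.hom := Groth.AlgGrp1.geometricallyReduced_of_smooth_hom G
  have : IsReduced (G ⊗ V).left := Groth.AlgGrp1.isReduced_tensorObj G V
  have : LocallyOfFiniteType (G ⊗ V).hom := by
    rw [Over.tensorObj_hom]
    infer_instance
  have : JacobsonSpace ↥(G ⊗ V).left := LocallyOfFiniteType.jacobsonSpace (G ⊗ V).hom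
  refine Over.OverMorphism.ext ?_
  refine ext_of_fromSpecResidueField_eq Φ₁.act.left Φ₂.act.left π.left
    (closedPoints (G ⊗ V).left) (dense_iff_closure_eq.2 closure_closedPoints) (fun x hx => ?_) ?_
  · rw [← cancel_epi (Spec.map (residueFieldIsoBase (G ⊗ V).hom x hx).hom)]
    let t : 𝟙_ (Over (Spec (CommRingCat.of k))) ⟶ G ⊗ V :=
      Over.homMk (pointOfClosedPoint (G ⊗ V).hom x hx) (pointOfClosedPoint_comp (G ⊗ V).hom x hx)
    have h := lifts_agree_on_points a π A Φ₁ Φ₂ hχ h₁ h₂ hl₁ hl₂ (t ≫ fst G V) (t ≫ snd G V)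
    rw [← comp_lift, lift_fst_snd, Category.comp_id] at h
    simpa [t, pointOfClosedPoint] using congrArg (fun m => m.left) h
  · rw [← Over.comp_left, ← Over.comp_left, h₁, h₂]

end Groth.LinUnique
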